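import Groth.Agent.H8Props.Stein.Connected
import Groth.Agent.H7Flat.UnivHomeo
import Groth.Agent.H06Conn.FiniteExtension
import Groth.Agent.H7Flat.GeomInt.Counts
import Mathlib.RingTheory.Spectrum.Prime.Noetherian

/-!
# Consequences of Stein factorisation

For a factorisation `u ≫ h` with `h` integral and `u` surjective with connected fibres: connected components
of fibres are the points of the fibres of `h`.
-/

set_option autoImplicit false
set_option linter.style.haveILetI false
set_option backward.isDefEq.respectTransparency false

universe u

open CategoryTheory Limits AlgebraicGeometry TopologicalSpace Opposite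

namespace Groth.Agent.H8Props.Stein

/-- A preconnected spectrum of an algebra integral over a field is a point. -/
theorem subsingleton_of_isIntegral_field {k R : Type u} [Field k] [CommRing R] [Algebra k R]
    [Algebra.IsIntegral k R] [PreconnectedSpace (PrimeSpectrum R)] : Subsingleton (PrimeSpectrum R) := by
  refine ⟨fun p q => PrimeSpectrum.ext (Ideal.ext fun a => ?_)⟩
  let A : Subalgebra k R := Algebra.adjoin k {a}
  haveI : Module.Finite k A :=
    Algebra.finite_adjoin_simple_of_isIntegral (Algebra.IsIntegral.isIntegral (R := k) a)
  haveI : IsArtinianRing A := IsArtinianRing.of_finite k A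
  have h := (isPreconnected_univ.image (PrimeSpectrum.comap A.val.toRingHom)
    (PrimeSpectrum.continuous_comap _).continuousOn).subsingleton
    (Set.mem_image_of_mem _ (Set.mem_univ p)) (Set.mem_image_of_mem _ (Set.mem_univ q))
  exact Ideal.ext_iff.1 (congrArg PrimeSpectrum.asIdeal h) ⟨a, Algebra.subset_adjoin rfl⟩

/-- A preconnected scheme integral over a field is a point. -/
theorem subsingleton_of_isIntegralHom_field {k : Type u} [Field k] {T : Scheme.{u}}
    (q : T ⟶ Spec (CommRingCat.of k)) [IsIntegralHom q] [PreconnectedSpace ↥T] : Subsingleton ↥T := by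
  haveI : IsAffine T := isAffine_of_isAffineHom q
  obtain ⟨φ, hφ⟩ := Spec.map_surjective (T.isoSpec.inv ≫ q)
  have hint : φ.hom.IsIntegral := IsIntegralHom.SpecMap_iff.1 (hφ ▸ inferInstance)
  algebraize [φ.hom]
  haveI : PreconnectedSpace (PrimeSpectrum Γ(T, ⊤)) :=
    ⟨by
      have := (isPreconnected_univ (α := ↥T)).image T.isoSpec.hom T.isoSpec.hom.continuous.continuousOn
      rwa [Set.image_univ, Set.range_eq_univ.2 (show Function.Surjective T.isoSpec.hom from
        T.isoSpec.hom.homeomorph.surjective)] at this⟩
  haveI : Subsingleton ↥(Spec Γ(T, ⊤)) := subsingleton_of_isIntegral_field (k := k) (R := Γ(T, ⊤))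
  exact (show Function.Injective T.isoSpec.hom from T.isoSpec.hom.homeomorph.injective).subsingleton

variable {X N S : Scheme.{u}}

/-- If `u ≫ h` has connected fibres, `u` is surjective and `h` is integral then `h` is injective. -/
theorem injective_of_connected_fibres (u : X ⟶ N) (h : N ⟶ S) [IsIntegralHom h] [Surjective u]
    (hc : ∀ s, _root_.IsPreconnected ((u ≫ h) ⁻¹' {s})) : Function.Injective h := by
  intro n₁ n₂ he
  have hpre : _root_.IsPreconnected (h ⁻¹' {h n₁}) := by
    have := (hc (h n₁)).image u u.continuous.continuousOn
    rwa [show u '' ((u ≫ h) ⁻¹' {h n₁}) = h ⁻¹' {h n₁} by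
      ext n
      constructor
      · rintro ⟨x, hx, rfl⟩
        exact (Scheme.Hom.comp_apply u h x).symm.trans hx
      · intro hn
        obtain ⟨x, rfl⟩ := u.surjective n
        exact ⟨x, (Scheme.Hom.comp_apply u h x).trans hn, rfl⟩] at this
  haveI : PreconnectedSpace ↥(h.fiber (h n₁)) := ⟨by
    rw [← (h.fiberι (h n₁)).isEmbedding.isInducing.isPreconnected_image, Set.image_univ, Scheme.Hom.range_fiberι]
    exact hpre⟩
  haveI : IsIntegralHom (h.fiberToSpecResidueField (h n₁)) := MorphismProperty.pullback_snd _ _ ‹_›
  haveI := subsingleton_of_isIntegralHom_field (k := S.residueField (h n₁)) (h.fiberToSpecResidueField (h n₁))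
  have h1 : n₁ ∈ Set.range (h.fiberι (h n₁)) := by rw [Scheme.Hom.range_fiberι]; rfl
  have h2 : n₂ ∈ Set.range (h.fiberι (h n₁)) := by rw [Scheme.Hom.range_fiberι]; exact he.symm
  obtain ⟨y₁, hy₁⟩ := h1
  obtain ⟨y₂, hy₂⟩ := h2
  exact hy₁.symm.trans ((congrArg (h.fiberι _) (Subsingleton.elim y₁ y₂)).trans hy₂)

theorem universallyInjective_of_geometricallyConnected (u : X ⟶ N) (h : N ⟶ S) [IsIntegralHom h]
    [Surjective u] [GeometricallyConnected (u ≫ h)] : UniversallyInjective h := by
  refine ⟨fun N' S' i₁ i₂ h' sq => ?_⟩
  let X' := pullback u i₁
  let u' : X' ⟶ N' := pullback.snd u i₁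
  have sq1 : IsPullback (pullback.fst u i₁) u' u i₁ := IsPullback.of_hasPullback _ _
  have sq2 := sq1.paste_vert sq.flip
  haveI : IsIntegralHom h' := MorphismProperty.of_isPullback sq.flip ‹_›
  haveI : GeometricallyConnected (u' ≫ h') := MorphismProperty.of_isPullback sq2 ‹_›
  haveI : Surjective u' := MorphismProperty.pullback_snd _ _ ‹_›
  exact injective_of_connected_fibres u' h' fun s => ((u' ≫ h').isConnected_preimage_singleton s).2

theorem isUnivHomeo_of_geometricallyConnected (u : X ⟶ N) (h : N ⟶ S) [IsIntegralHom h]
    [Surjective u] [GeometricallyConnected (u ≫ h)] : FlatMor.IsUnivHomeo h :=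
  (H7Flat.isUnivHomeo_iff h).2
    ⟨inferInstance, universallyInjective_of_geometricallyConnected u h, Surjective.of_comp u h⟩

/-- Composing a universal homeomorphism after a closed geometrically connected map. -/
theorem geometricallyConnected_comp_of_isUnivHomeo (u : X ⟶ N) (h : N ⟶ S) [UniversallyClosed u]
    [GeometricallyConnected u] (hh : FlatMor.IsUnivHomeo h) : GeometricallyConnected (u ≫ h) := by
  refine ⟨geometrically_iff_of_isClosedUnderIsomorphisms.2 fun K _ a => ?_⟩
  have he := hh _ _ _ (IsPullback.of_hasPullback h a).flip
  let v : pullback u (pullback.fst h a) ⟶ pullback h a := pullback.snd _ _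
  haveI : Subsingleton ↥(Spec (CommRingCat.of K)) := inferInstanceAs (Subsingleton (PrimeSpectrum K))
  haveI : Subsingleton ↥(pullback h a) := (show IsHomeomorph _ from he).injective.subsingleton
  haveI : Nonempty ↥(pullback h a) := by
    obtain ⟨x, -⟩ := (show IsHomeomorph _ from he).surjective (IsLocalRing.closedPoint K)
    exact ⟨x⟩
  haveI : GeometricallyConnected v := MorphismProperty.pullback_snd _ _ inferInstance
  haveI : ConnectedSpace ↥(pullback u (pullback.fst h a)) :=
    GeometricallyConnected.connectedSpace_of_subsingleton (f := v)
  let e := pullbackRightPullbackFstIso h a u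
  exact e.hom.homeomorph.surjective.connectedSpace e.hom.continuous

variable (f : X ⟶ S) [IsProper f]

theorem isProper_toNormalization : IsProper f.toNormalization := by
  haveI : IsProper (f.toNormalization ≫ f.fromNormalization) := by
    rw [f.toNormalization_fromNormalization]; infer_instance
  exact IsProper.of_comp _ f.fromNormalization

theorem surjective_toNormalization : Surjective f.toNormalization := by
  haveI := geometricallyConnected_toNormalization f
  infer_instance

/-- A proper morphism is geometrically connected iff the finite part of its Stein factorisation is a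
universal homeomorphism. -/
theorem geometricallyConnected_iff_isUnivHomeo :
    GeometricallyConnected f ↔ FlatMor.IsUnivHomeo f.fromNormalization := by
  haveI := geometricallyConnected_toNormalization f
  haveI := isProper_toNormalization f
  constructor
  · intro hf
    haveI : GeometricallyConnected (f.toNormalization ≫ f.fromNormalization) := by
      rwa [f.toNormalization_fromNormalization]
    exact isUnivHomeo_of_geometricallyConnected f.toNormalization f.fromNormalization
  · intro h
    have := geometricallyConnected_comp_of_isUnivHomeo f.toNormalization f.fromNormalization h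
    rwa [f.toNormalization_fromNormalization] at this

/-- The connected components of a geometric fibre are those of the fibre of the Stein factor. -/
theorem nGeomConnComp_eq (s : S) :
    MoreMor.nGeomConnComp f s = MoreMor.nGeomConnComp f.fromNormalization s := by
  haveI := geometricallyConnected_toNormalization f
  haveI := isProper_toNormalization f
  let k := SeparableClosure (S.residueField s)
  let a : Spec (CommRingCat.of k) ⟶ S :=
    Spec.map (CommRingCat.ofHom (algebraMap (S.residueField s) k)) ≫ S.fromSpecResidueField s
  have ha : a (IsLocalRing.closedPoint k) = s := by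
    rw [Scheme.Hom.comp_apply]; exact Scheme.fromSpecResidueField_apply _ _
  rw [← (H7Flat.GeomInt.nGeom_eq f a ha).2, ← (H7Flat.GeomInt.nGeom_eq f.fromNormalization a ha).2]
  let v : pullback f.toNormalization (pullback.fst f.fromNormalization a) ⟶ pullback f.fromNormalization a :=
    pullback.snd _ _
  haveI : GeometricallyConnected v := MorphismProperty.pullback_snd _ _ inferInstance
  haveI : IsProper v := MorphismProperty.pullback_snd _ _ inferInstance
  let e₀ : pullback f.toNormalization (pullback.fst f.fromNormalization a) ≅ pullback f a :=
    pullbackRightPullbackFstIso f.fromNormalization a f.toNormalization ≪≫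
      pullback.congrHom f.toNormalization_fromNormalization rfl
  rw [← H7Flat.GeomInt.card_connectedComponents_congr e₀.hom.homeomorph]
  exact ENat.card_congr ((v.isClosedMap.isQuotientMap v.continuous v.surjective).isCoinducing.connectedComponentsHomeomorph
    v.isConnected_preimage_singleton).toEquiv

theorem nGeomConnComp_lt_top {X S : Scheme.{u}} (f : X ⟶ S) [LocallyOfFiniteType f] [QuasiCompact f] (s : S) :
    MoreMor.nGeomConnComp f s < ⊤ := by
  let k := SeparableClosure (S.residueField s)
  let a : Spec (CommRingCat.of k) ⟶ S :=
    Spec.map (CommRingCat.ofHom (algebraMap (S.residueField s) k)) ≫ S.fromSpecResidueField s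
  have ha : a (IsLocalRing.closedPoint k) = s := by
    rw [Scheme.Hom.comp_apply]; exact Scheme.fromSpecResidueField_apply _ _
  rw [← (H7Flat.GeomInt.nGeom_eq f a ha).2]
  exact ENat.card_lt_top.2 (H06Conn.finite_connectedComponents_fibre f a)

/-- The Stein factor of a base change maps universally homeomorphically to the base change of the factor. -/
theorem isUnivHomeo_normalizationPullback {T : Scheme.{u}} (g : T ⟶ S) :
    FlatMor.IsUnivHomeo (f.normalizationPullback g) := by
  haveI := geometricallyConnected_toNormalization f
  haveI : Surjective (pullback.snd f g).toNormalization := surjective_toNormalization _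
  have sq : IsPullback (pullback.fst f g) ((pullback.snd f g).toNormalization ≫ f.normalizationPullback g)
      f.toNormalization (pullback.fst f.fromNormalization g) := by
    refine IsPullback.of_bot (v₂₁ := pullback.snd f.fromNormalization g) (v₂₂ := f.fromNormalization) (h₃₁ := g) ?_
      ?_ (IsPullback.of_hasPullback _ _)
    · rw [f.toNormalization_fromNormalization, Category.assoc, Scheme.Hom.normalizationPullback_snd,
        Scheme.Hom.toNormalization_fromNormalization]
      exact IsPullback.of_hasPullback f g
    · rw [Category.assoc, Scheme.Hom.toNormalization_normalizationPullback_fst]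
  haveI : GeometricallyConnected ((pullback.snd f g).toNormalization ≫ f.normalizationPullback g) :=
    MorphismProperty.of_isPullback sq inferInstance
  exact isUnivHomeo_of_geometricallyConnected (pullback.snd f g).toNormalization _

end Groth.Agent.H8Props.Stein
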