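import Groth.Agent.H10ZMT.Stein
import Groth.Agent.S2079
import Groth.Agent.H7Lim.Proper.Descend
import Groth.Agent.H17.ConsModModels
import Groth.Agent.H7Lim.IdealExtension
import Groth.Agent.H7Lim.FPDescent.Exists
import Groth.Agent.H7Lim.FPDescent.Noetherian
import Mathlib.AlgebraicGeometry.Morphisms.Proper

/-!
# Zariski's connectedness theorem for proper morphisms over an arbitrary base

If `f` is proper and `f_* O_X = O_S` then `f` is geometrically connected. The morphism is compared on a
field-valued fibre with a proper morphism of finite presentation, which comes from a Noetherian base.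
-/

set_option autoImplicit false
set_option linter.style.haveILetI false
set_option backward.isDefEq.respectTransparency false

universe u

open CategoryTheory Limits AlgebraicGeometry TopologicalSpace Opposite

namespace Groth.Agent.H8Props.Stein

/-- A closed subscheme lies in one cut out by a finitely generated ideal with the same trace on a given
Noetherian fibre. -/
theorem exists_fp_closed_same_fibre {X P S : Scheme.{u}} [CompactSpace P] [QuasiSeparatedSpace P]
    (j : X ⟶ P) [IsClosedImmersion j] (p : P ⟶ S) [LocallyOfFiniteType p] [QuasiCompact p]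
    (K : Type u) [Field K] (a : Spec (CommRingCat.of K) ⟶ S) :
    ∃ (Z : Scheme.{u}) (z : Z ⟶ P) (i : X ⟶ Z), IsClosedImmersion z ∧ LocallyOfFinitePresentation z ∧
      IsClosedImmersion i ∧ i ≫ z = j ∧
      ∀ w : ↥(pullback p a), pullback.fst p a w ∈ Set.range z → pullback.fst p a w ∈ Set.range j := by
  classical
  haveI : IsLocallyNoetherian (pullback p a) :=
    LocallyOfFiniteType.isLocallyNoetherian (pullback.snd p a)
  haveI : CompactSpace ↥(pullback p a) := QuasiCompact.compactSpace_of_compactSpace (pullback.snd p a)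
  haveI : IsNoetherian (pullback p a) := {}
  let I := {J : P.IdealSheafData // J ≤ j.ker ∧ ∀ A : P.affineOpens, (J.ideal A).FG}
  let W : Set ↥(pullback p a) := (pullback.fst p a) ⁻¹' (Set.range j)ᶜ
  let U : I → Set ↥(pullback p a) := fun J => (pullback.fst p a) ⁻¹' (J.1.support : Set P)ᶜ
  have hcov : W ⊆ ⋃ J, U J := by
    intro w hw
    have hz : pullback.fst p a w ∉ (j.ker.support : Set P) := by
      rw [Scheme.Hom.support_ker, j.isClosedEmbedding.isClosed_range.closure_eq]
      exact hw
    obtain ⟨_, ⟨A, hA, rfl⟩, hzA, -⟩ := P.isBasis_affineOpens.exists_subset_of_mem_open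
      (Set.mem_univ (pullback.fst p a w)) isOpen_univ
    rw [SetLike.mem_coe, Scheme.IdealSheafData.mem_support_iff_of_mem (U := ⟨A, hA⟩) hzA,
      Scheme.mem_zeroLocus_iff] at hz
    push Not at hz
    obtain ⟨g, hg, hzg⟩ := hz
    obtain ⟨J, hJ, hfg, hgJ⟩ := H7Lim.exists_finiteType_le j.ker ⟨A, hA⟩ {g}
      (by simpa using hg)
    refine Set.mem_iUnion.2 ⟨⟨J, hJ, hfg⟩, fun hmem => ?_⟩
    rw [SetLike.mem_coe, Scheme.IdealSheafData.mem_support_iff_of_mem (U := ⟨A, hA⟩) hzA,
      Scheme.mem_zeroLocus_iff] at hmem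
    exact hmem g (hgJ (by simp)) hzg
  obtain ⟨s, hs⟩ := (NoetherianSpace.isCompact W).elim_finite_subcover U
    (fun J => J.1.support.isClosed.isOpen_compl.preimage (pullback.fst p a).continuous) hcov
  let J : P.IdealSheafData := s.sup fun J => J.1
  have hJle : J ≤ j.ker := Finset.sup_le fun K _ => K.2.1
  have hJfg : ∀ A : P.affineOpens, (J.ideal A).FG :=
    Finset.sup_induction (p := fun L : P.IdealSheafData => ∀ A : P.affineOpens, (L.ideal A).FG)
      (fun A => by rw [Scheme.IdealSheafData.ideal_bot]; exact Submodule.fg_bot)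
      (fun L₁ h₁ L₂ h₂ A => (congrFun Scheme.IdealSheafData.ideal_sup A) ▸ Submodule.FG.sup (h₁ A) (h₂ A))
      (fun L _ => L.2.2)
  haveI : LocallyOfFinitePresentation J.subschemeι :=
    H7Lim.locallyOfFinitePresentation_of_ker_fg _ fun A => by
      rw [Scheme.IdealSheafData.ker_subschemeι]; exact hJfg A
  have hfac : (j.toImage ≫ Scheme.IdealSheafData.inclusion hJle) ≫ J.subschemeι = j := by
    rw [Category.assoc, Scheme.IdealSheafData.inclusion_subschemeι]
    exact j.toImage_imageι
  refine ⟨J.subscheme, J.subschemeι, j.toImage ≫ Scheme.IdealSheafData.inclusion hJle, inferInstance,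
    inferInstance, ?_, hfac, fun w hw => ?_⟩
  · haveI : IsClosedImmersion ((j.toImage ≫ Scheme.IdealSheafData.inclusion hJle) ≫ J.subschemeι) := by
      rw [hfac]; infer_instance
    exact IsClosedImmersion.of_comp _ J.subschemeι
  · by_contra hwj
    obtain ⟨L, hL, hwL⟩ := Set.mem_iUnion₂.1 (hs hwj)
    rw [Scheme.IdealSheafData.range_subschemeι] at hw
    exact hwL (Scheme.IdealSheafData.support_antitone (Finset.le_sup (f := fun J : I => J.1) hL) hw)

open H7Lim.FPDescent H17.ConsProp in
/-- A proper morphism of finite presentation to an affine scheme has a proper model over a Noetherian base. -/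
theorem exists_proper_model {R : Type u} [CommRing R] {X : Scheme.{u}}
    (f : X ⟶ Spec (CommRingCat.of R)) [IsProper f] [LocallyOfFinitePresentation f] :
    ∃ (S₀ X₀ : Scheme.{u}) (f₀ : X₀ ⟶ S₀) (q : X ⟶ X₀) (β : Spec (CommRingCat.of R) ⟶ S₀),
      IsAffine S₀ ∧ IsLocallyNoetherian S₀ ∧ IsProper f₀ ∧ IsPullback q f f₀ β := by
  haveI : Nonempty (Finset R) := ⟨∅⟩
  let D := (subringFunctor R).op ⋙ Scheme.Spec
  let c := subringCone R
  have hc : IsLimit c := isLimitSubringCone R
  obtain ⟨i, ⟨M⟩⟩ := H7Lim.FPDescent.exists_model hc (show X ⟶ c.pt from f)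
  have hp : IsProper (pullback.snd M.p (c.π.app i)) :=
    (H7Lim.prop_iff_of_isPullback (P := @IsProper) M.hpb).mp ‹IsProper f›
  haveI : CompactSpace M.P := QuasiCompact.compactSpace_of_compactSpace M.p
  haveI : CompactSpace (D.obj i) := inferInstanceAs (CompactSpace ↥(Spec _))
  haveI : QuasiSeparatedSpace (D.obj i) := inferInstanceAs (QuasiSeparatedSpace ↥(Spec _))
  haveI : QuasiSeparatedSpace M.P := quasiSeparatedSpace_of_quasiSeparated M.p
  obtain ⟨j, φ, hj⟩ := H7Lim.descends_isProper (Finset R)ᵒᵖ D c hc i M.p inferInstance hp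
  refine ⟨D.obj j, pullback M.p (D.map φ), pullback.snd M.p (D.map φ),
    pullback.lift M.g (f ≫ c.π.app j) (by rw [M.hpb.w, Category.assoc, c.w]), c.π.app j,
    inferInstanceAs (IsAffine (Spec _)), ?_, hj, ?_⟩
  · haveI : IsNoetherianRing (Algebra.adjoin ℤ ((unop j : Finset R) : Set R)) := by
      haveI := (Algebra.adjoin ℤ ((unop j : Finset R) : Set R)).fg_iff_finiteType.1 ⟨unop j, rfl⟩
      exact Algebra.FiniteType.isNoetherianRing ℤ _
    exact inferInstanceAs (IsLocallyNoetherian (Spec (CommRingCat.of _)))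
  · refine IsPullback.of_right (h₁₂ := pullback.fst M.p (D.map φ)) (h₂₂ := D.map φ) (v₁₃ := M.p) ?_
      (pullback.lift_snd _ _ _) (IsPullback.of_hasPullback _ _)
    rw [pullback.lift_fst, c.w]
    exact M.hpb

/-- Two morphisms to an affine scheme which agree after composition with a morphism whose map on global
functions is bijective are equal. -/
theorem ext_of_isIso_appTop {X S T : Scheme.{u}} [IsAffine T] (f : X ⟶ S) [IsIso f.appTop] {g g' : S ⟶ T}
    (h : f ≫ g = f ≫ g') : g = g' := by
  refine ext_of_isAffine ?_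
  have h' : g.appTop ≫ f.appTop = g'.appTop ≫ f.appTop := by
    rw [← Scheme.Hom.comp_appTop, ← Scheme.Hom.comp_appTop, h]
  exact (cancel_mono f.appTop).1 h'

theorem exists_factor_of_isIso_appTop {X S T : Scheme.{u}} [IsAffine S] [IsAffine T] (f : X ⟶ S)
    [IsIso f.appTop] (φ : X ⟶ T) : ∃ σ : S ⟶ T, f ≫ σ = φ := by
  refine ⟨S.isoSpec.hom ≫ Spec.map (φ.appTop ≫ inv f.appTop) ≫ T.isoSpec.inv, ?_⟩
  have h1 : X.toSpecΓ ≫ Spec.map f.appTop = f ≫ S.isoSpec.hom := (Scheme.toSpecΓ_naturality f).symm
  have h2 : X.toSpecΓ ≫ Spec.map φ.appTop = φ ≫ T.isoSpec.hom := (Scheme.toSpecΓ_naturality φ).symm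
  rw [← Category.assoc, ← h1, Category.assoc, ← Spec.map_comp_assoc, Category.assoc,
    IsIso.inv_hom_id, Category.comp_id, reassoc_of% h2, Iso.hom_inv_id, Category.comp_id]

/-- The affine case. -/
theorem connectedSpace_pullback_affine {R : Type u} [CommRing R] {X : Scheme.{u}}
    (f : X ⟶ Spec (CommRingCat.of R)) [IsProper f] [IsIso f.appTop] (K : Type u) [Field K]
    (a : Spec (CommRingCat.of K) ⟶ Spec (CommRingCat.of R)) : ConnectedSpace ↥(pullback f a) := by
  obtain ⟨I, _, _, D, c, hc, e, -, hD⟩ := Groth.Agent.S2079.result f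
  obtain ⟨i₀⟩ := IsCofiltered.nonempty (C := I)
  obtain ⟨hcl, hprop, hlfp⟩ := hD i₀
  haveI : IsIso e.inv.left := inferInstanceAs (IsIso ((Over.forget _).map e.inv))
  let j : X ⟶ (D.obj i₀).left := e.inv.left ≫ (c.π.app i₀).left
  have hj : j ≫ (D.obj i₀).hom = f :=
    (Category.assoc _ _ _).trans ((congrArg (e.inv.left ≫ ·) (Over.w (c.π.app i₀))).trans (Over.w e.inv))
  haveI : IsClosedImmersion j := inferInstanceAs (IsClosedImmersion (_ ≫ _))
  let p : (D.obj i₀).left ⟶ Spec (CommRingCat.of R) := (D.obj i₀).hom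
  haveI : IsProper p := hprop
  haveI : LocallyOfFinitePresentation p := hlfp
  haveI : CompactSpace (D.obj i₀).left := QuasiCompact.compactSpace_of_compactSpace p
  haveI : QuasiSeparatedSpace (D.obj i₀).left := quasiSeparatedSpace_of_quasiSeparated p
  obtain ⟨Z, z, i, hz, hzfp, hi, hiz, hfib⟩ := exists_fp_closed_same_fibre j p K a
  let f' : Z ⟶ Spec (CommRingCat.of R) := z ≫ p
  haveI : IsProper f' := inferInstanceAs (IsProper (_ ≫ _))
  haveI : LocallyOfFinitePresentation f' := inferInstanceAs (LocallyOfFinitePresentation (_ ≫ _))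
  have hif : i ≫ f' = f := by rw [← Category.assoc, hiz]; exact hj
  obtain ⟨S₀, X₀, f₀, q, β, _, _, _, hpb⟩ := exists_proper_model f'
  haveI : GeometricallyConnected f₀.toNormalization := H10ZMT.geometricallyConnected_toNormalization f₀
  haveI : IsFinite f₀.fromNormalization := Groth.Agent.S1297.result f₀
  haveI : IsAffine f₀.normalization := isAffine_of_isAffineHom f₀.fromNormalization
  let u := f₀.toNormalization
  let h := f₀.fromNormalization
  obtain ⟨σ, hσ⟩ := exists_factor_of_isIso_appTop f (i ≫ q ≫ u)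
  have hσh : σ ≫ h = β := by
    apply ext_of_isIso_appTop f
    rw [← Category.assoc, hσ, Category.assoc, Category.assoc, f₀.toNormalization_fromNormalization, hpb.w,
      ← Category.assoc, hif]
  let b : Spec (CommRingCat.of K) ⟶ f₀.normalization := a ≫ σ
  haveI : ConnectedSpace ↥(pullback u b) :=
    GeometricallyConnected.geometrically_connectedSpace _ _ _ (IsPullback.of_hasPullback u b)
  have hc₀ : pullback.fst u b ≫ f₀ = (pullback.snd u b ≫ a) ≫ β := by
    calc pullback.fst u b ≫ f₀ = pullback.fst u b ≫ u ≫ h :=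
          congrArg (pullback.fst u b ≫ ·) f₀.toNormalization_fromNormalization.symm
      _ = (pullback.snd u b ≫ a) ≫ β := by
          rw [← hσh, pullback.condition_assoc]
          simp only [Category.assoc, b]
  let θ : pullback u b ⟶ pullback f' a := pullback.lift (hpb.lift _ _ hc₀) (pullback.snd u b)
    (hpb.lift_snd _ _ hc₀)
  have hc₁ : (pullback.fst f a ≫ i ≫ q) ≫ u = pullback.snd f a ≫ b := by
    simp only [Category.assoc, b]
    rw [← hσ, ← Category.assoc, pullback.condition, Category.assoc]
  let ψ : pullback f a ⟶ pullback u b := pullback.lift _ _ hc₁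
  let ia : pullback f a ⟶ pullback f' a := pullback.map f a f' a i (𝟙 _) (𝟙 _)
    (by rw [Category.comp_id, hif]) (by rw [Category.comp_id, Category.id_comp])
  have hψ : ψ ≫ θ = ia := by
    apply pullback.hom_ext
    · refine hpb.hom_ext ?_ ?_
      · simp only [θ, ψ, ia, pullback.map, Category.assoc, pullback.lift_fst, hpb.lift_fst]
      · simp only [θ, ψ, ia, pullback.map, Category.assoc, pullback.lift_fst, hpb.lift_snd,
          pullback.lift_snd_assoc]
        rw [hif, pullback.condition]
    · simp only [θ, ψ, ia, pullback.map, Category.assoc, pullback.lift_snd, Category.comp_id]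
  haveI : IsClosedImmersion ia := by
    have := MorphismProperty.pullbackMap (P := @IsClosedImmersion) (f := f) (g := a) (f' := f') (g' := a)
      (i₁ := i) (i₂ := 𝟙 _) ‹IsClosedImmersion i› inferInstance hif.symm (Category.id_comp _).symm
    simpa [ia, pullback.map] using this
  have hsurj : Function.Surjective ia := by
    intro w
    have hw : w ∈ Set.range ia := by
      rw [Scheme.Pullback.range_map]
      refine ⟨?_, by simp⟩
      let w' := pullback.map f' a p a z (𝟙 _) (𝟙 _) (by rw [Category.comp_id]) (by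
        rw [Category.comp_id, Category.id_comp]) w
      have hw' : pullback.fst p a w' = z (pullback.fst f' a w) := by
        rw [← Scheme.Hom.comp_apply, ← Scheme.Hom.comp_apply]
        simp [pullback.map]
      obtain ⟨x, hx⟩ := hfib w' ⟨_, hw'.symm⟩
      refine ⟨x, z.isClosedEmbedding.injective ?_⟩
      rw [← Scheme.Hom.comp_apply, hiz, hx, hw']
    exact hw
  have hθ : Function.Surjective θ := by
    intro w
    obtain ⟨v, hv⟩ := hsurj w
    exact ⟨ψ v, by rw [← Scheme.Hom.comp_apply, hψ]; exact hv⟩
  haveI : ConnectedSpace ↥(pullback f' a) := hθ.connectedSpace θ.continuous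
  let ehomeo : ↥(pullback f a) ≃ₜ ↥(pullback f' a) :=
    ((isHomeomorph_iff_isEmbedding_surjective).2 ⟨ia.isClosedEmbedding.isEmbedding, hsurj⟩).homeomorph
  exact ehomeo.symm.surjective.connectedSpace ehomeo.symm.continuous

/-- **Zariski's connectedness theorem**: a proper morphism with `f_* O_X = O_S` is geometrically connected. -/
theorem geometricallyConnected_of_isIso_app {X S : Scheme.{u}} (f : X ⟶ S) [IsProper f]
    (hf : ∀ U : S.Opens, IsAffineOpen U → IsIso (f.app U)) : GeometricallyConnected f := by
  refine ⟨geometrically_iff_of_isClosedUnderIsomorphisms.2 fun K _ a => ?_⟩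
  obtain ⟨_, ⟨V, hV, rfl⟩, hxV, -⟩ := S.isBasis_affineOpens.exists_subset_of_mem_open
    (Set.mem_univ (a (IsLocalRing.closedPoint K))) isOpen_univ
  change S.Opens at V
  have hrange : Set.range a ⊆ Set.range V.ι := by
    rintro _ ⟨t, rfl⟩
    rw [Scheme.Opens.range_ι, Subsingleton.elim (α := PrimeSpectrum K) t (IsLocalRing.closedPoint K)]
    exact hxV
  let a' := IsOpenImmersion.lift V.ι a hrange
  have hfV : IsIso (f.app V) := hf V hV
  let g : (f ⁻¹ᵁ V).toScheme ⟶ Spec (CommRingCat.of Γ(S, V)) := (f ∣_ V) ≫ hV.isoSpec.hom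
  haveI : IsProper g := inferInstanceAs (IsProper (_ ≫ _))
  haveI : IsIso g.appTop := by
    haveI : IsIso (f.app (V.ι ''ᵁ ⊤)) := by rw [Scheme.Opens.ι_image_top]; exact hfV
    rw [Scheme.Hom.comp_appTop, morphismRestrict_appTop]
    infer_instance
  have := connectedSpace_pullback_affine g K (a' ≫ hV.isoSpec.hom)
  have h1 : IsPullback (pullback.fst g (a' ≫ hV.isoSpec.hom)) (pullback.snd g (a' ≫ hV.isoSpec.hom))
      (f ∣_ V) a' :=
    (IsPullback.of_hasPullback g (a' ≫ hV.isoSpec.hom)).of_iso (Iso.refl _) (Iso.refl _) (Iso.refl _)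
      hV.isoSpec.symm (by simp) (by simp) (by simp [g]) (by simp)
  have h2 := h1.paste_horiz (isPullback_morphismRestrict f V).flip
  rw [IsOpenImmersion.lift_fac] at h2
  exact h2.isoPullback.hom.homeomorph.surjective.connectedSpace h2.isoPullback.hom.continuous

/-- The first map of the Stein factorisation of a proper morphism is geometrically connected. -/
theorem geometricallyConnected_toNormalization {X S : Scheme.{u}} (f : X ⟶ S) [IsProper f] :
    GeometricallyConnected f.toNormalization := by
  haveI : IsProper (f.toNormalization ≫ f.fromNormalization) := by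
    rw [f.toNormalization_fromNormalization]; infer_instance
  haveI : IsProper f.toNormalization := IsProper.of_comp _ f.fromNormalization
  exact geometricallyConnected_of_isIso_app _ fun U _ => H10ZMT.isIso_app_toNormalization f U

end Groth.Agent.H8Props.Stein
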