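import Groth.Agent.H8Props.Stein.Basic
import Groth.Agent.H17.UnivHomeoAlg
import Mathlib.FieldTheory.PurelyInseparable.Basic
import Mathlib.RingTheory.KrullDimension.Zero

/-!
# Geometric connectedness of proper schemes over a field through global functions
-/

set_option autoImplicit false
set_option linter.style.haveILetI false
set_option backward.isDefEq.respectTransparency false

universe u

open CategoryTheory Limits AlgebraicGeometry TopologicalSpace Opposite

namespace Groth.Agent.H8Props.Stein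

/-- Universal homeomorphisms to the spectrum of a field. -/
theorem isUnivHomeo_field_iff (k A : Type u) [Field k] [CommRing A] [Algebra k A] :
    FlatMor.IsUnivHomeo (Spec.map (CommRingCat.ofHom (algebraMap k A))) ↔
      IsLocalRing A ∧ ringKrullDim A = 0 ∧
        ∀ a : A, ∃ (n : ℕ) (c : k), IsNilpotent (a ^ (ringExpChar k ^ n) - algebraMap k A c) := by
  rw [H17.UnivHomeoAlg.isUnivHomeo_iff]
  constructor
  · rintro ⟨hint, hu, hl⟩
    obtain ⟨ψ₀, -⟩ := hl (AlgebraicClosure k) (algebraMap k _)
    have hψ₀ : Nontrivial A := RingHom.domain_nontrivial ψ₀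
    have hmax : ∀ p : Ideal A, p.IsPrime → p.IsMaximal := fun p hp =>
      Ideal.isMaximal_of_isIntegral_of_isMaximal_comap (R := k) p
        (by rw [(p.comap (algebraMap k A)).eq_bot_of_prime]; exact Ideal.bot_isMaximal)
    have huniq : ∀ p q : Ideal A, p.IsPrime → q.IsPrime → p = q := by
      intro p q hp hq
      let Ω := AlgebraicClosure k
      obtain ⟨σ, hσ⟩ : ∃ σ : A →+* Ω, σ.comp (algebraMap k A) = algebraMap k Ω ∧ RingHom.ker σ = p := by
        have := hmax p hp
        letI : Field (A ⧸ p) := Ideal.Quotient.field p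
        haveI : Algebra.IsIntegral k (A ⧸ p) := ⟨fun x => by
          obtain ⟨y, rfl⟩ := Ideal.Quotient.mkₐ_surjective k p x
          exact (Algebra.IsIntegral.isIntegral y).map (Ideal.Quotient.mkₐ k p)⟩
        let σ : (A ⧸ p) →ₐ[k] Ω := IsAlgClosed.lift
        refine ⟨σ.toRingHom.comp (Ideal.Quotient.mk p), RingHom.ext fun c => σ.commutes c, ?_⟩
        rw [RingHom.ker_comp_of_injective _ σ.injective, Ideal.mk_ker]
      obtain ⟨τ, hτ⟩ : ∃ τ : A →+* Ω, τ.comp (algebraMap k A) = algebraMap k Ω ∧ RingHom.ker τ = q := by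
        have := hmax q hq
        letI : Field (A ⧸ q) := Ideal.Quotient.field q
        haveI : Algebra.IsIntegral k (A ⧸ q) := ⟨fun x => by
          obtain ⟨y, rfl⟩ := Ideal.Quotient.mkₐ_surjective k q x
          exact (Algebra.IsIntegral.isIntegral y).map (Ideal.Quotient.mkₐ k q)⟩
        let σ : (A ⧸ q) →ₐ[k] Ω := IsAlgClosed.lift
        refine ⟨σ.toRingHom.comp (Ideal.Quotient.mk q), RingHom.ext fun c => σ.commutes c, ?_⟩
        rw [RingHom.ker_comp_of_injective _ σ.injective, Ideal.mk_ker]
      rw [← hσ.2, ← hτ.2, hu Ω σ τ (hσ.1.trans hτ.1.symm)]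
    obtain ⟨P, hP⟩ := Ideal.exists_maximal A
    have hloc : IsLocalRing A :=
      IsLocalRing.of_unique_max_ideal ⟨P, hP, fun Q hQ => huniq _ _ hQ.isPrime hP.isPrime⟩
    refine ⟨hloc, ?_, fun a => ?_⟩
    · haveI : Ring.KrullDimLE 0 A := Ring.KrullDimLE.mk₀ hmax
      exact ringKrullDimZero_iff_ringKrullDim_eq_zero.1 inferInstance
    · letI : Field (A ⧸ P) := Ideal.Quotient.field P
      haveI : Algebra.IsAlgebraic k (A ⧸ P) := ⟨fun x => by
        obtain ⟨y, rfl⟩ := Ideal.Quotient.mkₐ_surjective k P x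
        exact ((Algebra.IsIntegral.isIntegral (R := k) y).map (Ideal.Quotient.mkₐ k P)).isAlgebraic⟩
      haveI : IsPurelyInseparable k (A ⧸ P) := by
        rw [isPurelyInseparable_iff_subsingleton_emb]
        refine ⟨fun σ τ => AlgHom.coe_ringHom_injective (Ideal.Quotient.ringHom_ext ?_)⟩
        exact hu _ _ _ (RingHom.ext fun c => (σ.commutes c).trans (τ.commutes c).symm)
      obtain ⟨n, c, hc⟩ := IsPurelyInseparable.pow_mem k (ringExpChar k) (Ideal.Quotient.mk P a)
      refine ⟨n, c, ?_⟩
      rw [← mem_nilradical, nilradical_eq_sInf, Submodule.mem_sInf]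
      intro p hp
      rw [huniq p P hp hP.isPrime, ← Ideal.Quotient.eq]
      exact hc.symm.trans rfl
  · rintro ⟨hloc, -, hpow⟩
    have hint : Algebra.IsIntegral k A := ⟨fun a => by
      obtain ⟨n, c, m, hm⟩ := hpow a
      refine ⟨(Polynomial.X ^ (ringExpChar k ^ n) - Polynomial.C c) ^ m, ?_, ?_⟩
      · exact (Polynomial.monic_X_pow_sub_C c
          (pow_ne_zero _ (expChar_ne_zero k (ringExpChar k)))).pow m
      · simpa using hm⟩
    refine ⟨hint, fun L _ ψ ψ' h => RingHom.ext fun a => ?_, H17.UnivHomeoAlg.lf_of_integral fun a ha =>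
      ⟨1, by rw [pow_one]; exact (map_eq_zero (algebraMap k A)).1 ha⟩⟩
    obtain ⟨n, c, hc⟩ := hpow a
    haveI : ExpChar L (ringExpChar k) := expChar_of_injective_ringHom (ψ.comp (algebraMap k A)).injective _
    refine iterateFrobenius_inj L (ringExpChar k) n ?_
    show ψ a ^ _ = ψ' a ^ _
    have h1 := (hc.map ψ).eq_zero
    have h2 := (hc.map ψ').eq_zero
    rw [map_sub, map_pow, sub_eq_zero] at h1 h2
    rw [h1, h2]
    exact congr($h c)

variable (k : Type u) [Field k] {X : Scheme.{u}} (f : X ⟶ Spec (CommRingCat.of k)) [IsProper f]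

/-- The finite part of the Stein factorisation over a field is the spectrum of the global functions. -/
theorem isUnivHomeo_fromNormalization_iff :
    FlatMor.IsUnivHomeo f.fromNormalization ↔
      FlatMor.IsUnivHomeo (Spec.map ((Scheme.ΓSpecIso (CommRingCat.of k)).inv ≫ f.appTop)) := by
  haveI : IsAffine f.normalization := isAffine_of_isAffineHom f.fromNormalization
  haveI : IsIso f.toNormalization.appTop := H10ZMT.isIso_app_toNormalization f ⊤
  haveI : FlatMor.IsUnivHomeo.{u}.RespectsIso := MorphismProperty.universally_respectsIso _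
  have h1 : f.appTop = f.fromNormalization.appTop ≫ f.toNormalization.appTop := by
    rw [← Scheme.Hom.comp_appTop, f.toNormalization_fromNormalization]
  let e : Spec Γ(X, ⊤) ≅ f.normalization := asIso (Spec.map f.toNormalization.appTop) ≪≫ f.normalization.isoSpec.symm
  have h2 : Spec.map ((Scheme.ΓSpecIso (CommRingCat.of k)).inv ≫ f.appTop) = e.hom ≫ f.fromNormalization := by
    rw [h1, Spec.map_comp, Spec.map_comp]
    simp only [e, Iso.trans_hom, asIso_hom, Iso.symm_hom, Category.assoc]
    congr 1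
    rw [← Scheme.isoSpec_inv_naturality, Scheme.isoSpec_Spec_inv]
  rw [h2]
  exact (MorphismProperty.cancel_left_of_respectsIso _ e.hom _).symm

theorem geometricallyConnected_field_iff :
    GeometricallyConnected f ↔
      (IsLocalRing Γ(X, ⊤) ∧ ringKrullDim Γ(X, ⊤) = 0 ∧
        ∀ a : Γ(X, ⊤), ∃ (n : ℕ) (c : k),
          IsNilpotent (a ^ (ringExpChar k ^ n) - f.appTop.hom ((Scheme.ΓSpecIso (CommRingCat.of k)).inv.hom c))) := by
  rw [geometricallyConnected_iff_isUnivHomeo, isUnivHomeo_fromNormalization_iff]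
  letI : Algebra k Γ(X, ⊤) := ((Scheme.ΓSpecIso (CommRingCat.of k)).inv ≫ f.appTop).hom.toAlgebra
  exact isUnivHomeo_field_iff k Γ(X, ⊤)

end Groth.Agent.H8Props.Stein
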