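import Groth.Agent.H8Props.Stein.Basic
import Groth.Agent.H17.UnibranchNormalization
import Groth.Agent.H17.UnivHomeoAlg
import Mathlib.FieldTheory.PurelyInseparable.Basic

/-!
# Zariski's connectedness theorem over geometrically unibranch bases
-/

set_option autoImplicit false
set_option linter.style.haveILetI false
set_option backward.isDefEq.respectTransparency false

universe u

open CategoryTheory Limits AlgebraicGeometry TopologicalSpace Opposite

namespace Groth.Agent.H8Props.Stein

/-- Extracting roots of exponential characteristic order in a field under a domain. -/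
theorem eq_of_pow_expChar_pow {A Ω : Type*} [CommRing A] [Field Ω] (φ : A →+* Ω) (q : ℕ) [hA : ExpChar A q]
    {n : ℕ} {x y : Ω} (h : x ^ q ^ n = y ^ q ^ n) : x = y := by
  cases hA with
  | zero => simpa using h
  | prime hq =>
    haveI : CharP Ω q := by
      refine (CharP.charP_iff_prime_eq_zero hq).2 ?_
      rw [← map_natCast φ q, CharP.cast_eq_zero, map_zero]
    haveI : ExpChar Ω q := ExpChar.prime hq
    exact iterateFrobenius_inj Ω q n h

/-- Field-valued points of the integral closure of a domain with geometrically unibranch local ring at the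
centre are determined by their restriction. -/
theorem integralClosure_points_eq {A O L : Type u} [CommRing A] [IsDomain A] [CommRing O] [IsLocalRing O]
    [Algebra A O] (p : Ideal A) [p.IsPrime] [IsLocalization.AtPrime O p] (hO : CAlg2.IsGeomUnibranch O)
    (K : Type u) [Field K] [Algebra A K] [hK : IsFractionRing A K] [Field L]
    (φ₁ φ₂ : integralClosure A K →+* L) (h : φ₁.comp (algebraMap A _) = φ₂.comp (algebraMap A _))
    (hp : RingHom.ker (φ₁.comp (algebraMap A _)) = p) : φ₁ = φ₂ := by
  obtain ⟨⟨hdom, hloc⟩, hres⟩ := hO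
  let R := CAlg2.red O
  haveI : IsLocalRing R := .of_surjective' (Ideal.Quotient.mk (nilradical O)) Ideal.Quotient.mk_surjective
  haveI : IsDomain O := IsLocalization.isDomain_of_le_nonZeroDivisors (M := p.primeCompl) O p.primeCompl_le_nonZeroDivisors
  have hnil : nilradical O = ⊥ := nilradical_eq_zero O
  let eR : O ≃ₐ[A] R := AlgEquiv.ofBijective (Ideal.Quotient.mkₐ A (nilradical O))
    ⟨fun s t hst => by
      have h' : s - t ∈ nilradical O := Ideal.Quotient.eq.1 hst
      rw [hnil] at h'
      exact sub_eq_zero.1 h', Ideal.Quotient.mk_surjective⟩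
  haveI : IsLocalization.AtPrime R p := IsLocalization.isLocalization_of_algEquiv p.primeCompl eR
  let K' := FractionRing R
  have hinjR : Function.Injective (algebraMap A R) := IsLocalization.injective R p.primeCompl_le_nonZeroDivisors
  haveI : FaithfulSMul A K' := (faithfulSMul_iff_algebraMap_injective _ _).2 (by
    rw [IsScalarTower.algebraMap_eq A R K']
    exact (IsFractionRing.injective R K').comp hinjR)
  haveI : IsFractionRing A K' := IsFractionRing.of_field A K' fun z => by
    obtain ⟨r, r', -, rfl⟩ := IsFractionRing.div_surjective (A := R) z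
    obtain ⟨a, s, rfl⟩ := IsLocalization.exists_mk'_eq p.primeCompl r
    obtain ⟨a', s', rfl⟩ := IsLocalization.exists_mk'_eq p.primeCompl r'
    have h : ∀ (c : A) (t : p.primeCompl), algebraMap R K' (IsLocalization.mk' R c t) =
        algebraMap A K' c / algebraMap A K' t := fun c t => by
      rw [eq_div_iff ((map_ne_zero_iff _ (FaithfulSMul.algebraMap_injective A K')).2
          (show (t : A) ≠ 0 from fun h0 => t.2 (show (t : A) ∈ p by rw [h0]; exact p.zero_mem))),
        IsScalarTower.algebraMap_apply A R K' (t : A),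
        ← map_mul, IsLocalization.mk'_spec, ← IsScalarTower.algebraMap_apply]
    exact ⟨a * s', s * a', by rw [h, h, map_mul, map_mul, div_div_div_eq]⟩
  haveI : IsLocalRing (integralClosure R K') := hloc
  let e : K' ≃ₐ[A] K :=
    @IsLocalization.algEquiv _ _ (nonZeroDivisors A) K' _ _ inferInstance K _ _ hK
  let Θ := e.mapIntegralClosure.toRingEquiv
  have hΘ : ∀ a, Θ (algebraMap A _ a) = algebraMap A _ a := fun a => e.mapIntegralClosure.commutes a
  have key := H17.UnibranchNormalization.eq_of_points (R := R) (K := K') p (fun z => by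
      obtain ⟨n, r, hr⟩ := hres (IsLocalRing.maximalIdeal (integralClosure R K')) z
      exact ⟨n, Ideal.Quotient.mk _ r, hr⟩)
    (φ₁.comp Θ.toRingHom) (φ₂.comp Θ.toRingHom) (φ₁.comp (algebraMap A _))
    (RingHom.ext fun a => congrArg φ₁ (hΘ a))
    (RingHom.ext fun a => (congrArg φ₂ (hΘ a)).trans (RingHom.congr_fun h a).symm) hp
  refine RingHom.ext fun c => ?_
  obtain ⟨c, rfl⟩ := Θ.surjective c
  exact RingHom.congr_fun key c

/-- Points of a domain integral over a geometrically unibranch domain with purely inseparable fraction field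
extension are determined by their restriction. -/
theorem points_eq_of_unibranch {A B Ω : Type u} [CommRing A] [IsDomain A] [CommRing B] [IsDomain B]
    [Algebra A B] [Algebra.IsIntegral A B] (hinj : Function.Injective (algebraMap A B))
    (hgen : ∀ (Ω : Type u) [Field Ω] (ψ ψ' : B →+* Ω), Function.Injective (ψ.comp (algebraMap A B)) →
      ψ.comp (algebraMap A B) = ψ'.comp (algebraMap A B) → ψ = ψ')
    [Field Ω] (ψ₁ ψ₂ : B →+* Ω) (h : ψ₁.comp (algebraMap A B) = ψ₂.comp (algebraMap A B))
    {O : Type u} [CommRing O] [IsLocalRing O] [Algebra A O] (p : Ideal A) [p.IsPrime]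
    [IsLocalization.AtPrime O p] (hO : CAlg2.IsGeomUnibranch O)
    (hp : RingHom.ker (ψ₁.comp (algebraMap A B)) = p) : ψ₁ = ψ₂ := by
  let K := FractionRing A
  let L := FractionRing B
  haveI : FaithfulSMul A B := (faithfulSMul_iff_algebraMap_injective _ _).2 hinj
  haveI : FaithfulSMul A L := FaithfulSMul.trans A B L
  letI : Algebra K L := FractionRing.liftAlgebra A L
  haveI : IsScalarTower A K L := inferInstance
  -- the extension of fraction fields is purely inseparable
  haveI : Algebra.IsAlgebraic K L := ⟨fun x => by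
    obtain ⟨b, c, -, rfl⟩ := IsFractionRing.div_surjective (A := B) x
    have hb : ∀ b : B, IsAlgebraic K (algebraMap B L b) := fun b =>
      (((Algebra.IsIntegral.isIntegral (R := A) b).map (IsScalarTower.toAlgHom A B L)).tower_top).isAlgebraic
    exact (hb b).mul (hb c).inv⟩
  haveI : IsPurelyInseparable K L := by
    rw [isPurelyInseparable_iff_subsingleton_emb]
    refine ⟨fun σ τ => AlgHom.coe_ringHom_injective (IsLocalization.ringHom_ext (nonZeroDivisors B) ?_)⟩
    refine hgen _ _ _ ?_ ?_
    · rw [RingHom.comp_assoc, ← IsScalarTower.algebraMap_eq A B L]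
      exact σ.toRingHom.injective.comp (FaithfulSMul.algebraMap_injective A L)
    · refine RingHom.ext fun a => ?_
      show σ (algebraMap B L (algebraMap A B a)) = τ (algebraMap B L (algebraMap A B a))
      rw [← IsScalarTower.algebraMap_apply, IsScalarTower.algebraMap_apply A K L, σ.commutes, τ.commutes]
  refine RingHom.ext fun b => ?_
  obtain ⟨n, z, hz⟩ := IsPurelyInseparable.pow_mem K (ringExpChar K) (algebraMap B L b)
  set q := ringExpChar K
  -- the elements of `B` lying in `K`
  let jK : integralClosure A K →+* L := (algebraMap K L).comp (integralClosure A K).val.toRingHom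
  let B₀ : Subalgebra A B :=
    { ((jK.range.comap (algebraMap B L)).toSubsemiring : Subsemiring B) with
      algebraMap_mem' := fun a => ⟨algebraMap A _ a, by
        show algebraMap K L (algebraMap A K a) = algebraMap B L (algebraMap A B a)
        rw [← IsScalarTower.algebraMap_apply, ← IsScalarTower.algebraMap_apply]⟩ }
  have hzint : IsIntegral A z := by
    have h1 : IsIntegral A (algebraMap B L (b ^ q ^ n)) :=
      (Algebra.IsIntegral.isIntegral (R := A) _).map (IsScalarTower.toAlgHom A B L)
    rw [map_pow, ← hz] at h1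
    exact (isIntegral_algebraMap_iff (algebraMap K L).injective).1 h1
  let bq : B₀ := ⟨b ^ q ^ n, ⟨⟨z, hzint⟩, hz.trans (map_pow _ _ _).symm⟩⟩
  have hjK : Function.Injective jK := (algebraMap K L).injective.comp Subtype.val_injective
  have hB₀ : ∀ x : B₀, ∃ y, jK y = algebraMap B L x := fun x => x.2
  choose ι hι using hB₀
  let ιhom : B₀ →ₐ[A] integralClosure A K :=
    { toFun := ι
      map_one' := hjK (by rw [hι, map_one]; simp)
      map_mul' := fun x y => hjK (by rw [hι, map_mul, hι, hι]; simp)
      map_zero' := hjK (by rw [hι, map_zero]; simp)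
      map_add' := fun x y => hjK (by rw [hι, map_add, hι, hι]; simp)
      commutes' := fun a => hjK (by
        rw [hι]
        show algebraMap B L (algebraMap A B a) = algebraMap K L (algebraMap A K a)
        rw [← IsScalarTower.algebraMap_apply, ← IsScalarTower.algebraMap_apply]) }
  have hιinj : Function.Injective ιhom := fun x y hxy => Subtype.ext (IsFractionRing.injective B L
    (by rw [← hι, ← hι]; exact congrArg jK hxy))
  let Ω' := AlgebraicClosure Ω
  let j := algebraMap Ω Ω'
  letI : Algebra B₀ (integralClosure A K) := ιhom.toRingHom.toAlgebra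
  haveI : IsScalarTower A B₀ (integralClosure A K) :=
    IsScalarTower.of_algebraMap_eq fun a => (ιhom.commutes a).symm
  haveI : Algebra.IsIntegral B₀ (integralClosure A K) := Algebra.IsIntegral.tower_top (R := A)
  have hl := H17.UnivHomeoAlg.lf_of_integral (A := B₀) (B := integralClosure A K)
    fun a ha => ⟨1, by rw [pow_one]; exact hιinj (ha.trans (map_zero ιhom).symm)⟩
  obtain ⟨χ₁, hχ₁⟩ := hl Ω' ((j.comp ψ₁).comp B₀.val.toRingHom)
  obtain ⟨χ₂, hχ₂⟩ := hl Ω' ((j.comp ψ₂).comp B₀.val.toRingHom)
  have hA : ∀ (χ : integralClosure A K →+* Ω') (ψ : B →+* Ω),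
      χ.comp (algebraMap B₀ _) = (j.comp ψ).comp B₀.val.toRingHom →
      χ.comp (algebraMap A _) = j.comp (ψ.comp (algebraMap A B)) := fun χ ψ hχ => RingHom.ext fun a => by
    rw [RingHom.comp_apply, IsScalarTower.algebraMap_apply A B₀ (integralClosure A K)]
    exact RingHom.congr_fun hχ (algebraMap A B₀ a)
  have hχ : χ₁ = χ₂ := integralClosure_points_eq p hO K χ₁ χ₂ (by rw [hA χ₁ ψ₁ hχ₁, hA χ₂ ψ₂ hχ₂, h])
    (by rw [hA χ₁ ψ₁ hχ₁, RingHom.ker_comp_of_injective _ j.injective, hp])
  have hb : j (ψ₁ (b ^ q ^ n)) = j (ψ₂ (b ^ q ^ n)) := by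
    have e₁ := RingHom.congr_fun hχ₁ bq
    have e₂ := RingHom.congr_fun hχ₂ bq
    exact e₁.symm.trans ((RingHom.congr_fun hχ _).trans e₂)
  have hb' := j.injective hb
  rw [map_pow, map_pow] at hb'
  -- the exponential characteristic of `K` is `1` or that of `Ω`
  haveI : ExpChar A q :=
    (algebraMap A K).expChar (IsFractionRing.injective A K) q
  exact eq_of_pow_expChar_pow (ψ₁.comp (algebraMap A B)) q hb'

variable {X S : Scheme.{u}} (f : X ⟶ S) [IsProper f]

theorem universallyInjective_fiber_of_geometricallyConnected (η : S)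
    [GeometricallyConnected (f.fiberToSpecResidueField η)] :
    UniversallyInjective (f.fromNormalization.fiberToSpecResidueField η) := by
  let a := S.fromSpecResidueField η
  haveI := surjective_toNormalization f
  let v : pullback f.toNormalization (pullback.fst f.fromNormalization a) ⟶ pullback f.fromNormalization a :=
    pullback.snd _ _
  haveI : Surjective v := MorphismProperty.pullback_snd _ _ inferInstance
  let e₀ : pullback f.toNormalization (pullback.fst f.fromNormalization a) ≅ pullback f a :=
    pullbackRightPullbackFstIso f.fromNormalization a f.toNormalization ≪≫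
      pullback.congrHom f.toNormalization_fromNormalization rfl
  haveI : IsIntegralHom (pullback.snd f.fromNormalization a) := MorphismProperty.pullback_snd _ _ inferInstance
  haveI : GeometricallyConnected (v ≫ pullback.snd f.fromNormalization a) := by
    have : v ≫ pullback.snd f.fromNormalization a = e₀.hom ≫ f.fiberToSpecResidueField η := by
      simp [v, e₀, Scheme.Hom.fiberToSpecResidueField, a]
    rw [this]
    exact (MorphismProperty.cancel_left_of_respectsIso @GeometricallyConnected _ _).2 ‹_›
  exact universallyInjective_of_geometricallyConnected v (pullback.snd f.fromNormalization a)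

theorem geometricallyConnected_of_geomUnibranch [IsDominant f] [IsIntegral X] [IsIntegral S]
    (hS : ∀ s : S, CAlg2.IsGeomUnibranch (S.presheaf.stalk s))
    (hη : GeometricallyConnected (f.fiberToSpecResidueField (genericPoint S))) :
    GeometricallyConnected f := by
  have hui := universallyInjective_fiber_of_geometricallyConnected f (genericPoint S)
  haveI : Surjective f :=
    ⟨Set.range_eq_univ.1 (f.isClosedMap.isClosed_range.closure_eq.symm.trans f.denseRange.closure_range)⟩
  haveI : Surjective (f.toNormalization ≫ f.fromNormalization) := by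
    rwa [f.toNormalization_fromNormalization]
  rw [geometricallyConnected_iff_isUnivHomeo, H7Flat.isUnivHomeo_iff]
  refine ⟨inferInstance, ?_, Surjective.of_comp f.toNormalization _⟩
  let N := f.normalization
  let h := f.fromNormalization
  have hfib : ∀ (Ω : Type u) [Field Ω] (g₁ g₂ : Spec (CommRingCat.of Ω) ⟶ N), g₁ ≫ h = g₂ ≫ h →
      h (g₁ (IsLocalRing.closedPoint Ω)) = genericPoint S → g₁ = g₂ := by
    intro Ω _ g₁ g₂ hg hgen
    obtain ⟨⟨y, θ⟩, hθ⟩ := (Scheme.SpecToEquivOfField Ω S).symm.surjective (g₁ ≫ h)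
    have hy : y = genericPoint S := by
      have := congr($hθ (IsLocalRing.closedPoint Ω))
      rw [Scheme.Hom.comp_apply] at this
      rw [← hgen, ← this, Scheme.SpecToEquivOfField_symm_apply, Scheme.Hom.comp_apply,
        Scheme.fromSpecResidueField_apply]
    subst hy
    rw [Scheme.SpecToEquivOfField_symm_apply] at hθ
    let l₁ : Spec (CommRingCat.of Ω) ⟶ h.fiber (genericPoint S) := pullback.lift g₁ (Spec.map θ) hθ.symm
    let l₂ : Spec (CommRingCat.of Ω) ⟶ h.fiber (genericPoint S) :=
      pullback.lift g₂ (Spec.map θ) (hg.symm.trans hθ.symm)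
    have hinj : ∀ (K : Type u) [Field K], Function.Injective
        (fun g : Spec (CommRingCat.of K) ⟶ h.fiber (genericPoint S) => g ≫ h.fiberToSpecResidueField _) :=
      ((tfae_universallyInjective (h.fiberToSpecResidueField (genericPoint S))).out 0 1).1 hui
    have hl : l₁ = l₂ := hinj Ω (by
      show l₁ ≫ _ = l₂ ≫ _
      simp [l₁, l₂, Scheme.Hom.fiberToSpecResidueField])
    have := congrArg (fun m => m ≫ pullback.fst h (S.fromSpecResidueField (genericPoint S))) hl
    simpa [l₁, l₂, pullback.lift_fst] using this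
  refine ((tfae_universallyInjective h).out 0 1).2 fun Ω hΩ a b hab => ?_
  letI := hΩ
  change a ≫ h = b ≫ h at hab
  let s := h (a (IsLocalRing.closedPoint Ω))
  obtain ⟨U, hU, hsU, -⟩ := exists_isAffineOpen_mem_and_subset (Set.mem_univ s) (U := (⊤ : S.Opens))
  haveI : Nonempty U := ⟨⟨_, hsU⟩⟩
  let U' := h ⁻¹ᵁ U
  have hU' : IsAffineOpen U' := hU.preimage _
  haveI : Nonempty U' := ⟨⟨a (IsLocalRing.closedPoint Ω), hsU⟩⟩
  have hlift : ∀ c : Spec (CommRingCat.of Ω) ⟶ N, c ≫ h = a ≫ h → ∃ ψ, Spec.map ψ ≫ hU'.fromSpec = c := by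
    intro c hc
    have hsub : Set.range c ⊆ Set.range hU'.fromSpec := by
      rw [hU'.range_fromSpec]
      rintro _ ⟨z, rfl⟩
      obtain rfl : z = IsLocalRing.closedPoint Ω := Subsingleton.elim (α := PrimeSpectrum Ω) _ _
      show h (c _) ∈ U
      rw [← Scheme.Hom.comp_apply, hc]
      exact hsU
    exact ⟨Spec.preimage (IsOpenImmersion.lift hU'.fromSpec c hsub), by
      rw [Spec.map_preimage, IsOpenImmersion.lift_fac]⟩
  obtain ⟨α, rfl⟩ := hlift a rfl
  obtain ⟨β, rfl⟩ := hlift b hab.symm
  have hkey : ∀ {Ω : Type u} [Field Ω] (ψ : Γ(N, U') ⟶ CommRingCat.of Ω),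
      (Spec.map ψ ≫ hU'.fromSpec) ≫ h = Spec.map (h.app U ≫ ψ) ≫ hU.fromSpec := fun {_} _ ψ => by
    rw [Category.assoc, ← hU.SpecMap_appLE_fromSpec h hU' le_rfl, ← Spec.map_comp_assoc, Scheme.Hom.app_eq_appLE]
  rw [hkey, hkey] at hab
  have hαβ : h.app U ≫ α = h.app U ≫ β :=
    Spec.map_injective ((cancel_mono hU.fromSpec).1 hab)
  let := (h.app U).hom.toAlgebra
  haveI : Algebra.IsIntegral Γ(S, U) Γ(N, U') :=
    algebraMap_isIntegral_iff.1 (h.isIntegral_app U hU)
  haveI : IsDominant h := ⟨(Surjective.of_comp f.toNormalization h).surj.denseRange⟩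
  haveI := IsSchemeTheoreticallyDominant.of_isDominant h
  have hinj : Function.Injective (algebraMap Γ(S, U) Γ(N, U')) := h.app_injective U
  suffices α.hom = β.hom by rw [CommRingCat.hom_ext this]
  let p := RingHom.ker (α.hom.comp (algebraMap Γ(S, U) Γ(N, U')))
  haveI : p.IsPrime := RingHom.ker_isPrime _
  let y : S := hU.fromSpec ⟨p, inferInstance⟩
  have hyU : y ∈ U := by
    have := Set.mem_range_self (f := hU.fromSpec) (⟨p, inferInstance⟩ : PrimeSpectrum Γ(S, U))
    rwa [hU.range_fromSpec] at this
  have hpy : (hU.primeIdealOf ⟨y, hyU⟩).asIdeal = p := congrArg PrimeSpectrum.asIdeal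
    (hU.fromSpec.isEmbedding.injective (hU.fromSpec_primeIdealOf ⟨y, hyU⟩) :
      hU.primeIdealOf ⟨y, hyU⟩ = ⟨p, inferInstance⟩)
  letI := S.presheaf.algebra_section_stalk (U := U) ⟨y, hyU⟩
  haveI : IsLocalization.AtPrime (S.presheaf.stalk y) p := by
    haveI := hU.isLocalization_stalk ⟨y, hyU⟩
    convert this; exact hpy.symm
  refine points_eq_of_unibranch hinj (fun Ω' _ ψ ψ' hψinj hψ => ?_) α.hom β.hom congr(($hαβ).hom) p (hS y) rfl
  have hc : (Spec.map (CommRingCat.ofHom ψ) ≫ hU'.fromSpec) ≫ h =
      (Spec.map (CommRingCat.ofHom ψ') ≫ hU'.fromSpec) ≫ h := by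
    rw [hkey, hkey]
    exact congrArg (fun m => Spec.map m ≫ hU.fromSpec) (CommRingCat.hom_ext hψ)
  have := hfib Ω' _ _ hc (by
    rw [← Scheme.Hom.comp_apply, hkey, Scheme.Hom.comp_apply]
    have hbot : (Spec.map (h.app U ≫ CommRingCat.ofHom ψ)) (IsLocalRing.closedPoint Ω') =
        (⟨⊥, Ideal.isPrime_bot⟩ : PrimeSpectrum Γ(S, U)) :=
      PrimeSpectrum.ext (show Ideal.comap _ (IsLocalRing.maximalIdeal Ω') = ⊥ by
        rw [IsLocalRing.maximalIdeal_eq_bot, ← RingHom.ker_eq_comap_bot]
        exact (RingHom.injective_iff_ker_eq_bot _).1 hψinj)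
    rw [hbot]
    haveI := isIntegral_of_isOpenImmersion hU.fromSpec
    exact (congrArg hU.fromSpec (genericPoint_eq_bot_of_affine _).symm).trans
      (genericPoint_eq_of_isOpenImmersion hU.fromSpec))
  have h3 := Spec.map_injective ((cancel_mono hU'.fromSpec).1 this)
  exact congr(($h3).hom)

end Groth.Agent.H8Props.Stein
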